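import Mathlib

/-!
# Power series with restricted coefficients and exponents
-/

set_option autoImplicit false
universe u

namespace Groth.Agent.H1PS

variable {k : Type u} [Field k] {σ : Type*}

/-- A set of exponents containing zero such that a sum with a member is a member iff the other is. -/
structure IsExpSet (E : Set (σ →₀ ℕ)) : Prop where
  zero_mem : 0 ∈ E
  add_mem_iff : ∀ i j, i ∈ E → (i + j ∈ E ↔ j ∈ E)

/-- Power series supported on `E` with coefficients in `F`. -/
def ser (F : Subfield k) (E : Set (σ →₀ ℕ)) (hE : IsExpSet E) : Subring (MvPowerSeries σ k) where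
  carrier := {f | ∀ m, MvPowerSeries.coeff m f ∈ F ∧ (m ∉ E → MvPowerSeries.coeff m f = 0)}
  one_mem' m := by
    classical
    rw [MvPowerSeries.coeff_one]
    split_ifs with h
    · exact ⟨F.one_mem, fun hn => (hn (h ▸ hE.zero_mem)).elim⟩
    · exact ⟨F.zero_mem, fun _ => rfl⟩
  zero_mem' m := ⟨by simp, fun _ => by simp⟩
  add_mem' {f g} hf hg m := ⟨by rw [map_add]; exact F.add_mem (hf m).1 (hg m).1,
    fun hm => by rw [map_add, (hf m).2 hm, (hg m).2 hm, add_zero]⟩
  neg_mem' {f} hf m := ⟨by rw [map_neg]; exact F.neg_mem (hf m).1,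
    fun hm => by rw [map_neg, (hf m).2 hm, neg_zero]⟩
  mul_mem' {f g} hf hg m := by
    classical
    rw [MvPowerSeries.coeff_mul]
    refine ⟨F.sum_mem fun x _ => F.mul_mem (hf _).1 (hg _).1, fun hm => Finset.sum_eq_zero fun x hx => ?_⟩
    by_cases h1 : x.1 ∈ E
    · rw [(hg x.2).2 fun h2 => hm (Finset.HasAntidiagonal.mem_antidiagonal.mp hx ▸ (hE.add_mem_iff _ _ h1).mpr h2),
        mul_zero]
    · rw [(hf x.1).2 h1, zero_mul]

theorem mem_ser {F : Subfield k} {E : Set (σ →₀ ℕ)} {hE : IsExpSet E} {f : MvPowerSeries σ k} :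
    f ∈ ser F E hE ↔ ∀ m, MvPowerSeries.coeff m f ∈ F ∧ (m ∉ E → MvPowerSeries.coeff m f = 0) := Iff.rfl

/-- A quotient of series from `ser F E` lying in the power series ring lies in `ser F E`. -/
theorem mem_ser_of_mul {F : Subfield k} {E : Set (σ →₀ ℕ)} {hE : IsExpSet E} {h b : MvPowerSeries σ k}
    (hb : b ∈ ser F E hE) (hb0 : b ≠ 0) (ha : h * b ∈ ser F E hE) : h ∈ ser F E hE := by
  classical
  obtain ⟨π, hπ⟩ := LinearMap.exists_leftInverse_of_injective (Algebra.linearMap F k)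
    (LinearMap.ker_eq_bot.mpr Subtype.val_injective)
  have hπ1 : ∀ c : F, π (c : k) = c := fun c => LinearMap.congr_fun hπ c
  let h' : MvPowerSeries σ k := fun m => if m ∈ E then (π (MvPowerSeries.coeff m h) : k) else 0
  have hh' : h' ∈ ser F E hE := fun m => by
    show (if m ∈ E then (π (MvPowerSeries.coeff m h) : k) else 0) ∈ F ∧ _
    split_ifs with hm
    · exact ⟨SetLike.coe_mem _, fun hn => (hn hm).elim⟩
    · exact ⟨F.zero_mem, fun _ => if_neg hm⟩
  have heq : h' * b = h * b := by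
    ext m
    by_cases hm : m ∈ E
    · have h1 : MvPowerSeries.coeff m (h * b) = (π (MvPowerSeries.coeff m (h * b)) : k) :=
        (congrArg Subtype.val (hπ1 ⟨_, (ha m).1⟩)).symm
      rw [h1, MvPowerSeries.coeff_mul, MvPowerSeries.coeff_mul, map_sum, AddSubmonoidClass.coe_finset_sum]
      refine Finset.sum_congr rfl fun x hx => ?_
      have hsum := Finset.HasAntidiagonal.mem_antidiagonal.mp hx
      by_cases h2 : x.2 ∈ E
      · have hx1 : x.1 ∈ E := (hE.add_mem_iff x.2 x.1 h2).mp (by rw [add_comm, hsum]; exact hm)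
        have hb' : (⟨_, (hb x.2).1⟩ : F) • MvPowerSeries.coeff x.1 h =
            MvPowerSeries.coeff x.1 h * MvPowerSeries.coeff x.2 b := mul_comm _ _
        rw [← hb', map_smul, show MvPowerSeries.coeff x.1 h' = (π (MvPowerSeries.coeff x.1 h) : k) from if_pos hx1]
        exact mul_comm _ _
      · rw [(hb x.2).2 h2, mul_zero, mul_zero, map_zero, ZeroMemClass.coe_zero]
    · rw [((ser F E hE).mul_mem hh' hb m).2 hm, (ha m).2 hm]
  exact mul_right_cancel₀ hb0 heq ▸ hh'

theorem mem_ser_of_mem_closure {F : Subfield k} {E : Set (σ →₀ ℕ)} {hE : IsExpSet E} {h : MvPowerSeries σ k}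
    (hh : algebraMap (MvPowerSeries σ k) (FractionRing (MvPowerSeries σ k)) h ∈
      Subfield.closure (algebraMap (MvPowerSeries σ k) (FractionRing (MvPowerSeries σ k)) '' (ser F E hE))) :
    h ∈ ser F E hE := by
  obtain ⟨y, hy, z, hz, hyz⟩ := Subfield.mem_closure_iff.mp hh
  have hc : Subring.closure (algebraMap (MvPowerSeries σ k) (FractionRing (MvPowerSeries σ k)) '' (ser F E hE)) ≤
      (ser F E hE).map (algebraMap _ _) := Subring.closure_le.mpr fun _ hw => hw
  obtain ⟨a, ha, rfl⟩ := hc hy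
  obtain ⟨b, hb, rfl⟩ := hc hz
  by_cases hb0 : b = 0
  · rw [hb0, map_zero, div_zero] at hyz
    rw [(map_eq_zero_iff _ (IsFractionRing.injective _ _)).mp hyz.symm]
    exact zero_mem _
  · refine mem_ser_of_mul hb hb0 ?_
    have hne : algebraMap (MvPowerSeries σ k) (FractionRing (MvPowerSeries σ k)) b ≠ 0 :=
      (map_ne_zero_iff _ (IsFractionRing.injective _ _)).mpr hb0
    rw [show h * b = a from IsFractionRing.injective _ (FractionRing (MvPowerSeries σ k)) (by
      rw [map_mul]; exact ((div_eq_iff hne).mp hyz).symm)]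
    exact ha

theorem isExpSet_univ : IsExpSet (Set.univ : Set (σ →₀ ℕ)) :=
  ⟨trivial, fun _ _ _ => Iff.rfl⟩

theorem isExpSet_dvd (p : ℕ) : IsExpSet {m : σ →₀ ℕ | ∀ s, p ∣ m s} :=
  ⟨fun _ => dvd_zero p, fun i j hi => forall_congr' fun s => by
    rw [Finsupp.add_apply, Nat.dvd_add_right (hi s)]⟩

/-- A fraction all of whose conjugates lie in the subfields is a fraction with the common coefficients. -/
theorem exists_rep {ι : Type*} (F : ι → Subfield k) (E : Set (σ →₀ ℕ)) (hE : IsExpSet E) (Q : ℕ) (hQ : Q ≠ 0)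
    (hpow : ∀ (g : MvPowerSeries σ k) i, g ^ Q ∈ ser (F i) E hE) {x : FractionRing (MvPowerSeries σ k)}
    (hx : ∀ i, x ∈ Subfield.closure (algebraMap (MvPowerSeries σ k) (FractionRing (MvPowerSeries σ k)) '' (ser (F i) E hE))) :
    ∃ h g : MvPowerSeries σ k, (∀ i, h ∈ ser (F i) E hE) ∧
      x = algebraMap _ _ h / algebraMap _ _ (g ^ Q) := by
  obtain ⟨f, g, hg, rfl⟩ := IsFractionRing.div_surjective (MvPowerSeries σ k) x
  have hg0 : algebraMap (MvPowerSeries σ k) (FractionRing (MvPowerSeries σ k)) g ≠ 0 :=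
    IsFractionRing.to_map_ne_zero_of_mem_nonZeroDivisors hg
  have heq : algebraMap (MvPowerSeries σ k) (FractionRing (MvPowerSeries σ k)) f / algebraMap _ _ g =
      algebraMap _ _ (f * g ^ (Q - 1)) / algebraMap _ _ (g ^ Q) := by
    rw [map_mul, map_pow, map_pow, div_eq_div_iff hg0 (pow_ne_zero _ hg0), mul_assoc]
    congr 1
    rw [← pow_succ, Nat.sub_add_cancel (Nat.pos_of_ne_zero hQ)]
  refine ⟨f * g ^ (Q - 1), g, fun i => mem_ser_of_mem_closure ?_, heq⟩
  have h1 := mul_mem (hx i) (Subfield.subset_closure ⟨g ^ Q, hpow g i, rfl⟩)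
  rwa [heq, div_mul_cancel₀ _ (by rw [map_pow]; exact pow_ne_zero _ hg0)] at h1

theorem pow_mem_ser (e : ℕ) (p : ℕ) [ExpChar k p] (F : Subfield k) (hF : ∀ c : k, c ^ p ^ e ∈ F) [Finite σ]
    (g : MvPowerSeries σ k) : g ^ p ^ e ∈ ser F {m | ∀ s, p ^ e ∣ m s} (isExpSet_dvd _) := by
  classical
  have hp : p ≠ 0 := expChar_ne_zero k p
  intro m
  rw [← MvPowerSeries.map_iterateFrobenius_expand p hp g e, MvPowerSeries.coeff_map]
  refine ⟨hF _, fun hm => ?_⟩
  obtain ⟨s, hs⟩ := not_forall.mp hm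
  rw [MvPowerSeries.coeff_expand_of_not_dvd _ _ _ hs, map_zero]

end Groth.Agent.H1PS
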