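import Groth.Agent.PBasisLib.Inter
import Mathlib

/-!
# Subfields of finite codimension with intersection the `p`th powers
-/

set_option autoImplicit false
universe u

namespace Groth.Agent.H1PS

open PBasisLib in
theorem exists_family_of_base (p : ℕ) [Fact p.Prime] (k₀ K : Type u) [Field k₀] [Field K] [Algebra k₀ K]
    [CharP K p] (hnat : ∀ c : k₀, ∃ n : ℕ, algebraMap k₀ K c = n) :
    ∃ (ι : Type u) (_ : Nonempty ι) (F : ι → Subfield K),
      (∀ a b, ∃ c, F c ≤ F a ⊓ F b) ∧ (∀ i, Module.Finite (F i) K) ∧ (∀ i (c : K), c ^ p ∈ F i) ∧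
      ∀ x, (∀ i, x ∈ F i) → ∃ y, y ^ p = x := by
  classical
  obtain ⟨B, -, -, hB⟩ := exists_isPBasis p k₀ (Set.empty_subset (Set.univ : Set K))
    (fun t ht => absurd ht (Set.notMem_empty t))
    (eq_top_iff.mpr fun y _ => subset_Fp p k₀ _ (Set.mem_univ y))
  obtain ⟨b, hb⟩ := exists_basis_D hB
  have hfreeB : Free p k₀ (Subtype.val : B → K) := free_of_isPIndependent p k₀ hB.1
  let kk : Finset B → IntermediateField k₀ K := fun S => Fp p k₀ (Subtype.val '' {c : B | c ∉ S})
  have hk : Antitone kk := fun S T hST => Fp_mono p k₀ (Set.image_mono fun c hc => fun h => hc (hST h))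
  have hfree : ∀ S : Finset B, Free p (kk S) (fun a : S => ((a : B) : K)) := fun S a hmem => by
    rw [mem_Fp_base_iff p kk S] at hmem
    refine hfreeB (a : B) ((sup_le ?_ ?_ : kk S ⊔ Fp p k₀ _ ≤
      Fp p k₀ (Subtype.val '' {c : B | c ≠ (a : B)})) hmem)
    · exact Fp_mono p k₀ (Set.image_mono fun c hc h => hc (by rw [h]; exact a.2))
    · refine Fp_mono p k₀ ?_
      rintro _ ⟨c, hc, rfl⟩
      exact ⟨(c : B), fun h => hc (Subtype.ext h), rfl⟩
  have hsep : (⨅ S, kk S ⊔ Fp p k₀ (∅ : Set K)) = Fp p k₀ ∅ := by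
    refine (iInf_eq_iff_separating p kk hk).mpr fun ω hω => ?_
    let S := (b.repr ω).support
    have h0 : ∑ a : S, b.repr ω (a : B) • KaehlerDifferential.D (kk S) K ((a : B) : K) = 0 := by
      rw [← hω S]
      conv_rhs => rw [← b.linearCombination_repr ω, Finsupp.linearCombination_apply, Finsupp.sum]
      rw [map_sum, ← Finset.sum_coe_sort S]
      refine Finset.sum_congr rfl fun a _ => ?_
      rw [map_smul, hb, KaehlerDifferential.map_D]
      rfl
    have hz := Fintype.linearIndependent_iff.mp ((free_iff_linearIndependent_D p (kk S) _).mp (hfree S)) _ h0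
    refine b.repr.injective (Finsupp.ext fun a => ?_)
    rw [map_zero, Finsupp.zero_apply]
    by_cases ha : a ∈ S
    · exact hz ⟨a, ha⟩
    · exact Finsupp.notMem_support_iff.mp ha
  have hpow : ∀ S (y : K), y ^ p ∈ kk S := fun S y => pow_mem_Fp p k₀ _ y
  refine ⟨Finset B, inferInstance, fun S => (kk S).toSubfield,
    fun a b => ⟨a ∪ b, le_inf (hk Finset.subset_union_left) (hk Finset.subset_union_right)⟩,
    fun S => ?_, hpow, fun x hx => ?_⟩
  · let T : Set K := (S.image (Subtype.val : B → K) : Finset K)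
    have hT : IntermediateField.adjoin (kk S) T = ⊤ := by
      have h1 := (isPGenerating_iff_Fp p k₀ _).mp hB.2
      refine eq_top_iff.mpr fun y _ => ?_
      have h2 : Fp p k₀ (Set.range (Subtype.val : B → K)) ≤
          (IntermediateField.adjoin (kk S) T).restrictScalars k₀ := by
        rw [Fp, IntermediateField.adjoin_le_iff]
        rintro z (⟨w, rfl⟩ | ⟨c, rfl⟩)
        · show w ^ p ∈ IntermediateField.adjoin (kk S) T
          exact (IntermediateField.adjoin (kk S) T).algebraMap_mem (⟨w ^ p, hpow S w⟩ : kk S)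
        · by_cases hc : c ∈ S
          · show (c : K) ∈ IntermediateField.adjoin (kk S) T
            exact IntermediateField.subset_adjoin (kk S) T (Finset.mem_coe.mpr (Finset.mem_image_of_mem _ hc))
          · show (c : K) ∈ IntermediateField.adjoin (kk S) T
            have hcm : (c : K) ∈ kk S := subset_Fp p k₀ (Subtype.val '' {c : B | c ∉ S}) ⟨c, hc, rfl⟩
            exact (IntermediateField.adjoin (kk S) T).algebraMap_mem (⟨(c : K), hcm⟩ : kk S)
      exact h2 (h1 ▸ IntermediateField.mem_top)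
    haveI : Finite T := Finite.of_fintype _
    have hfd : FiniteDimensional (kk S) (IntermediateField.adjoin (kk S) T) :=
      IntermediateField.finiteDimensional_adjoin (fun z _ =>
        ⟨Polynomial.X ^ p - Polynomial.C ⟨z ^ p, hpow S z⟩,
          Polynomial.monic_X_pow_sub_C _ (Fact.out : p.Prime).ne_zero, by simp⟩)
    exact Module.Finite.equiv ((IntermediateField.equivOfEq hT).trans IntermediateField.topEquiv).toLinearEquiv
  · have h1 : x ∈ Fp p k₀ (∅ : Set K) := hsep ▸ mem_iInf'.mpr fun S =>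
      (le_sup_left : kk S ≤ kk S ⊔ Fp p k₀ ∅) (hx S)
    have h2 : (Fp p k₀ (∅ : Set K)).toSubfield ≤ (frobenius K p).fieldRange := by
      rw [Fp, IntermediateField.adjoin_toSubfield, Subfield.closure_le]
      rintro _ (⟨c, rfl⟩ | ⟨⟨w, rfl⟩ | hw⟩)
      · obtain ⟨n, this⟩ := hnat c
        rw [this]
        exact natCast_mem _ n
      · exact ⟨w, rfl⟩
      · exact hw.elim
    obtain ⟨y, hy⟩ := h2 h1
    exact ⟨y, hy⟩

theorem exists_family (p : ℕ) [Fact p.Prime] (K : Type u) [Field K] [CharP K p] :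
    ∃ (ι : Type u) (_ : Nonempty ι) (F : ι → Subfield K),
      (∀ a b, ∃ c, F c ≤ F a ⊓ F b) ∧ (∀ i, Module.Finite (F i) K) ∧ (∀ i (c : K), c ^ p ∈ F i) ∧
      ∀ x, (∀ i, x ∈ F i) → ∃ y, y ^ p = x := by
  letI : Algebra (ULift.{u} (ZMod p)) K :=
    ((ZMod.castHom dvd_rfl K).comp (ULift.ringEquiv (R := ZMod p)).toRingHom).toAlgebra
  refine exists_family_of_base p (ULift.{u} (ZMod p)) K fun c => ?_
  obtain ⟨n, hn⟩ := ZMod.natCast_zmod_surjective (n := p) c.down
  refine ⟨n, ?_⟩
  show ZMod.castHom dvd_rfl K c.down = _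
  rw [← hn, map_natCast]

end Groth.Agent.H1PS
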